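import Cfsg.Agent.SM.Ot.ProdC
import Cfsg.Agent.TH.Sim.AltSub
import Cfsg.Agent.H277.SK.AltSix
import Cfsg.Agent.S2119

/-!
# SM (S3570): box Oth (helper15)
-/

set_option autoImplicit false
set_option linter.unusedSectionVars false

namespace Cfsg.Agent.SM.Ot

open Cfsg Equiv Subgroup MulAction

section alt

variable {c : ℕ}

theorem pair (hc : 5 ≤ c) (x : Fin c) {α β : MulAut (alternatingGroup (Fin c))} {σ : Perm (Fin c)}
    (h : MulAut.conjNormal σ = α * β⁻¹) :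
    (stabilizer (alternatingGroup (Fin c)) x).comap α.toMonoidHom = (stabilizer (alternatingGroup (Fin c)) x).comap β.toMonoidHom ∨
      c - 1 ∣ ((stabilizer (alternatingGroup (Fin c)) x).comap α.toMonoidHom ⊓
        (stabilizer (alternatingGroup (Fin c)) x).comap β.toMonoidHom).index := by
  have h1 : (stabilizer (alternatingGroup (Fin c)) x).comap α.toMonoidHom =
      (stabilizer (alternatingGroup (Fin c)) (σ⁻¹ x)).comap β.toMonoidHom := Subgroup.ext fun g => by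
    rw [mul_inv_eq_iff_eq_mul.1 h.symm]
    show (σ * β g * σ⁻¹) x = x ↔ (β g).1 (σ⁻¹ x) = σ⁻¹ x
    rw [Perm.mul_apply, Perm.mul_apply, Perm.eq_inv_iff_eq]
  rw [h1]
  refine (eq_or_ne (σ⁻¹ x) x).imp (fun k => by rw [k]) fun k => ?_
  have := alternatingGroup.isMultiplyPretransitive (Fin c)
  have h2 := IsMultiplyPretransitive.index_of_fixingSubgroup_eq (G := alternatingGroup (Fin c)) {σ⁻¹ x, x}
    (isMultiplyPretransitive_of_le (n := Nat.card (Fin c) - 2) (by rw [Set.ncard_pair k, Nat.card_fin]; omega) (Nat.sub_le ..))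
  rw [← comap_inf, index_comap_of_surjective _ β.surjective, show stabilizer (alternatingGroup (Fin c)) (σ⁻¹ x) ⊓
    stabilizer _ x = fixingSubgroup _ {σ⁻¹ x, x} from Subgroup.ext fun g => by simp [mem_fixingSubgroup_iff], h2,
    Set.ncard_pair k, Nat.card_fin, mul_comm, ← Nat.descFactorial_eq_factorial_mul_choose]
  exact Dvd.intro _ rfl

/-- three subgroups of index `c` of `A_c` -/
theorem three_alt (hc : 5 ≤ c) {U V W : Subgroup (alternatingGroup (Fin c))} (hU : U.index = c) (hV : V.index = c)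
    (hW : W.index = c) : (U = V ∨ c - 1 ∣ (U ⊓ V).index) ∨ (U = W ∨ c - 1 ∣ (U ⊓ W).index) ∨ (V = W ∨ c - 1 ∣ (V ⊓ W).index) := by
  have x : Fin c := ⟨0, Nat.lt_of_lt_of_le (by norm_num) hc⟩
  obtain ⟨α, rfl⟩ := TH.Sim.Al.exists_aut hc hU x
  obtain ⟨β, rfl⟩ := TH.Sim.Al.exists_aut hc hV x
  obtain ⟨γ, rfl⟩ := TH.Sim.Al.exists_aut hc hW x
  by_cases h6 : c = 6
  · subst h6
    by_cases h1 : H277.SK.Pr (α * β⁻¹)
    · exact Or.inl (pair hc _ (H277.SK.pr_cn h1).choose_spec)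
    by_cases h2 : H277.SK.Pr (β * γ⁻¹)
    · exact Or.inr (Or.inr (pair hc _ (H277.SK.pr_cn h2).choose_spec))
    have h3 := H277.SK.pr_mul h1 h2
    rw [mul_assoc, inv_mul_cancel_left] at h3
    exact Or.inr (Or.inl (pair hc _ (H277.SK.pr_cn h3).choose_spec))
  · exact Or.inl (pair hc _ ((S2119.result c (by omega) h6).2 _).choose_spec)

theorem three {G : Type} [Group G] (hc : 5 ≤ c) (hG : Nonempty (G ≃* alternatingGroup (Fin c))) {A U V W : Subgroup G} {m : ℕ}
    (hA : A.index = c ^ m) (hU : U.index = c) (hV : V.index = c) (hW : W.index = c) (aU : A ≤ U) (aV : A ≤ V) (aW : A ≤ W)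
    (h : U ≠ V) : W = U ∨ W = V := by
  obtain ⟨e⟩ := hG
  have h1 := fun L : Subgroup G => index_comap_of_surjective L (f := e.symm.toMonoidHom) e.symm.surjective
  have h2 : ∀ {K L : Subgroup G}, A ≤ K → A ≤ L → K.comap e.symm.toMonoidHom = L.comap e.symm.toMonoidHom ∨
      c - 1 ∣ (K.comap e.symm.toMonoidHom ⊓ L.comap e.symm.toMonoidHom).index → K = L := fun k l h =>
    comap_injective e.symm.surjective (h.resolve_right fun h => by
      rw [← comap_inf, h1] at h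
      have h3 := (((Nat.coprime_self_sub_left (by omega)).2 (Nat.coprime_one_left c)).pow_right m).eq_one_of_dvd
        (h.trans (hA ▸ index_dvd_of_le (le_inf k l)))
      omega)
  rcases three_alt hc ((h1 U).trans hU) ((h1 V).trans hV) ((h1 W).trans hW) with k | k | k
  exacts [absurd (h2 aU aV k) h, Or.inl (h2 aU aW k).symm, Or.inr (h2 aV aW k).symm]

end alt

/-- **box Oth** -/
theorem boxOth : BoxOth := by
  intro Ω _ _ X H T s hp hT
  obtain ⟨a⟩ : Nonempty Ω := Fintype.card_pos_iff.1 (by have := s.five; omega)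
  by_cases h : ∃ M ∈ Ov X H, ∃ V, Aff M V
  · obtain ⟨M, hM, V, hV⟩ := h
    have h8 := (aff_eight s hp hT hM hV).1
    have h1 : {M | M ∈ Ov X H ∧ Soc M T}.ncard ≤ 1 := (Set.ncard_le_one (Set.toFinite _)).2 fun M h1 M' h2 =>
      s.eq_of_nor h1.1 h2.1 h1.2.toNor h2.2.toNor hT.ne
    have h2 := aff_count s hp hT h8
    refine Or.inr ((Set.ncard_le_ncard (fun M hM => ?_) (Set.toFinite _)).trans ((Set.ncard_union_le _ _).trans
      ((Nat.add_le_add h1 h2).trans (by norm_num))))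
    by_contra k
    obtain ⟨c, m, K, k1, k2, -, -, -, k3, -⟩ := cart s hp hT hM (fun V hV => k (Or.inr ⟨hM, V, hV⟩))
      (fun S hS => k (Or.inl ⟨hM, soc_eight s hp hT h8 hM hS ▸ hS⟩)) a
    rw [Nat.card_eq_fintype_card, h8] at k3
    have := (Nat.pow_le_pow_left k1 2).trans (Nat.pow_le_pow_right (by omega) k2)
    omega
  · refine Or.inl ((Set.ncard_le_one (Set.toFinite _)).2 fun M h1 M' h2 => ?_)
    obtain ⟨c, m, K, k1, -, k2, k3, ⟨i, j, k4⟩, k5, k6, k7, k8⟩ := cart s hp hT h1.1 (fun V hV => h ⟨M, h1.1, V, hV⟩) h1.2 a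
    obtain ⟨d, n, L, l1, -, l2, l3, ⟨u, v, l4⟩, -, l6, l7, -⟩ := cart s hp hT h2.1 (fun V hV => h ⟨M', h2.1, V, hV⟩) h2.2 a
    obtain rfl := deg_eq k1 l1 k2 l2
    have := pretrans (hT.trans hp)
    rw [← index_stabilizer_of_transitive T a] at k5
    refine s.eq_of_le_of_le h1.1 h2.1 k7 (l7.trans (congrArg (fun 𝒦 => H936.relStab (Rel T a 𝒦)) (Set.Subset.antisymm ?_ ?_)).le) k8
    · rintro _ ⟨w, rfl⟩
      exact (three k1 k2 k5 (k3 i) (k3 j) (l3 w) (k6 i) (k6 j) (l6 w) k4).elim (fun e => ⟨i, e.symm⟩) fun e => ⟨j, e.symm⟩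
    · rintro _ ⟨w, rfl⟩
      exact (three k1 k2 k5 (l3 u) (l3 v) (k3 w) (l6 u) (l6 v) (k6 w) l4).elim (fun e => ⟨u, e.symm⟩) fun e => ⟨v, e.symm⟩

end Cfsg.Agent.SM.Ot
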