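import Mathlib

/-!
# SM (S3570), box Oth: complements in affine groups (helper15)

`no_four` : a group `H` of affine maps whose linear part contains all commutators of `GL(V)` and which meets the
translations trivially has no transitive `p`-subgroup if `dim V ≥ 4`.
-/

set_option autoImplicit false
set_option linter.unusedSectionVars false

namespace Cfsg.Agent.SM.Ot

open Subgroup

/-- fixed points of a `p`-group of automorphisms -/
theorem card_mod {P U : Type*} [Group P] [Group U] [Finite U] {p : ℕ} [Fact p.Prime] (hP : IsPGroup p P)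
    (φ : P →* MulAut U) : ∃ C : Subgroup U, (∀ x, x ∈ C ↔ ∀ g, φ g x = x) ∧ Nat.card U ≡ Nat.card C [MOD p] := by
  let := MulAction.compHom U φ
  exact ⟨⟨⟨⟨{x | ∀ g, φ g x = x}, fun {a b} ha hb g => by rw [map_mul, ha g, hb g]⟩, fun g => map_one _⟩,
    fun {a} ha g => by rw [map_inv, ha g]⟩, fun _ => Iff.rfl, hP.card_modEq_card_fixedPoints U⟩

theorem exists_fix {P U : Type*} [Group P] [Group U] [Finite U] {p : ℕ} [Fact p.Prime] (hP : IsPGroup p P)
    (φ : P →* MulAut U) (hU : p ∣ Nat.card U) : ∃ x, x ≠ 1 ∧ ∀ g, φ g x = x := by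
  obtain ⟨C, h1, h2⟩ := card_mod hP φ
  obtain ⟨x, hx, h3⟩ := (bot_or_exists_ne_one C).resolve_left fun e => by
    rw [e, card_bot] at h2
    exact (Fact.out : p.Prime).one_lt.ne' (Nat.dvd_one.1 ((h2.dvd_iff dvd_rfl).1 hU))
  exact ⟨x, h3, (h1 x).1 hx⟩

theorem exists_cent {G : Type*} [Group G] [Finite G] {p : ℕ} [Fact p.Prime] {P U : Subgroup G} (hP : IsPGroup p P)
    (hn : ∀ g ∈ P, ∀ x ∈ U, g * x * g⁻¹ ∈ U) (hU : p ∣ Nat.card U) : ∃ x ∈ U, x ≠ 1 ∧ ∀ g ∈ P, g * x = x * g := by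
  obtain ⟨x, h1, h2⟩ := exists_fix hP (U.normalizerMonoidHom.comp
    (inclusion fun g hg => mem_normalizer_fintype (hn g hg))) hU
  exact ⟨x, x.2, fun e => h1 (Subtype.ext e), fun g hg => mul_inv_eq_iff_eq_mul.1 (congrArg Subtype.val (h2 ⟨g, hg⟩))⟩

variable {V : Type*} [CommGroup V] {p : ℕ} [Fact p.Prime]

theorem exists_add {W : Type*} [AddCommGroup W] [Module (ZMod p) W] {B : AddSubgroup W} {c : W} (hc : c ∉ B) (w : W) :
    ∃ f : W →+ W, (∀ b ∈ B, f b = 0) ∧ f c = w ∧ ∀ v, f v ∈ AddSubgroup.zmultiples w := by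
  obtain ⟨φ, h1, h2⟩ := (AddSubgroup.toZModSubmodule p B).exists_le_ker_of_notMem (v := c) hc
  refine ⟨(((φ c)⁻¹ • φ).smulRight w).toAddMonoidHom, fun b hb => ?_, ?_, fun v => ?_⟩
  · change ((φ c)⁻¹ * φ b) • w = 0
    rw [LinearMap.mem_ker.1 (h2 (x := b) hb), mul_zero, zero_smul]
  · change ((φ c)⁻¹ * φ c) • w = w
    rw [inv_mul_cancel₀ h1, one_smul]
  · exact ZMod.smul_mem (AddSubgroup.mem_zmultiples w) _

theorem exists_hom (hp : ∀ v : V, v ^ p = 1) {B : Subgroup V} {c : V} (hc : c ∉ B) (w : V) :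
    ∃ f : V →* V, (∀ b ∈ B, f b = 1) ∧ f c = w ∧ ∀ v, f v ∈ zpowers w := by
  obtain ⟨f, h1, h2, h3⟩ := @exists_add p _ (Additive V) _
    (AddCommGroup.zmodModule fun x => congrArg Additive.ofMul (hp x.toMul)) B.toAddSubgroup (.ofMul c) hc (.ofMul w)
  exact ⟨MonoidHom.toAdditive.symm f, h1, h2, h3⟩

/-- the transvection -/
def tv (f : V →* V) (hf : ∀ v, f (f v) = 1) : MulAut V where
  toFun v := v * f v
  invFun v := v * (f v)⁻¹
  left_inv v := by simp [hf]
  right_inv v := by simp [hf]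
  map_mul' a b := by rw [map_mul, mul_mul_mul_comm]

theorem tv_apply (f : V →* V) (hf : ∀ v, f (f v) = 1) (v : V) : tv f hf v = v * f v := rfl

theorem kill {f : V →* V} {w v : V} (h : f w = 1) (hv : v ∈ zpowers w) : f v = 1 :=
  (zpowers_le.2 (MonoidHom.mem_ker.2 h) : zpowers w ≤ f.ker) hv

theorem exists_tv {R : Subgroup (MulAut V)} (full : ∀ β γ : MulAut V, β * γ * β⁻¹ * γ⁻¹ ∈ R) {f g : V →* V}
    (h1 : ∀ v, f (f v) = 1) (h2 : ∀ v, g (g v) = 1) (h3 : ∀ v, f (g v) = 1) : ∃ β ∈ R, ∀ v, β v = v * g (f v) := by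
  refine ⟨_, full (tv g h2) (tv f h1), fun v => ?_⟩
  rw [show tv g h2 * tv f h1 = tv (g.comp f) (fun v => by simp [h3]) * tv f h1 * tv g h2 from MulEquiv.ext fun x => by
    simp only [MulAut.mul_apply, tv_apply, map_mul, MonoidHom.comp_apply, h1, h3, mul_one, map_one]
    simp only [mul_left_comm, mul_comm], mul_inv_cancel_right, mul_inv_cancel_right]
  rfl

variable [Finite V]

theorem card_zp (hp : ∀ v : V, v ^ p = 1) (v : V) : Nat.card (zpowers v) ≤ p := by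
  rw [Nat.card_zpowers]
  exact orderOf_le_of_pow_eq_one (Fact.out : p.Prime).pos (hp v)

theorem index_ker_le (hp : ∀ v : V, v ^ p = 1) {f : V →* V} {w : V} (h : ∀ v, f v ∈ zpowers w) : f.ker.index ≤ p := by
  rw [index_ker]
  exact (card_le_of_le (by rintro _ ⟨v, rfl⟩; exact h v)).trans (card_zp hp w)

theorem zp_eq (hp : ∀ v : V, v ^ p = 1) {u w : V} (h : u ∈ zpowers w) (hu : u ≠ 1) : zpowers w ≤ zpowers u :=
  (eq_of_le_of_card_ge (zpowers_le.2 h) (by
    rw [Nat.card_zpowers u, orderOf_eq_prime (hp u) hu]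
    exact card_zp hp w)).ge

theorem exists_notMem {A B : Subgroup V} {k : ℕ} (hA : A.index ≤ p ^ k) (hB : Nat.card B ≤ p)
    (h : p ^ (k + 2) ≤ Nat.card V) : ∃ v ∈ A, v ∉ B := by
  refine SetLike.not_le_iff_exists.1 fun e => ?_
  have h1 := Nat.mul_le_mul ((card_le_of_le e).trans hB) hA
  rw [card_mul_index, ← pow_succ'] at h1
  exact absurd (h.trans h1) (not_le.2 (Nat.pow_lt_pow_right (Fact.out : p.Prime).one_lt (by omega)))

theorem no_four {H : Type*} [Group H] [Finite H] (hp : ∀ v : V, v ^ p = 1) (ρ : H →* MulAut V)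
    (hρ : Function.Injective ρ) (c : H → V) (hc : ∀ g h, c (g * h) = c g * ρ g (c h))
    (full : ∀ β γ : MulAut V, β * γ * β⁻¹ * γ⁻¹ ∈ ρ.range) {P : Subgroup H} (hP : IsPGroup p P)
    (tr : ∀ v y, ∃ g ∈ P, c g * ρ g v = y) (h4 : p ^ 4 ≤ Nat.card V) : False := by
  have hp1 : 1 < p := (Fact.out : p.Prime).one_lt
  have h3 : p ^ 3 ≤ Nat.card V := (Nat.pow_le_pow_right hp1.le (by norm_num)).trans h4
  have h2 : p ^ 2 ≤ Nat.card V := (Nat.pow_le_pow_right hp1.le (by norm_num)).trans h4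
  obtain ⟨v₀, -, h0⟩ := exists_notMem (A := ⊤) (B := ⊥) (k := 0) (by simp) (by simpa using hp1.le) h2
  obtain ⟨u, u1, u2⟩ := exists_fix hP (ρ.comp P.subtype) (orderOf_eq_prime (hp v₀) h0 ▸ orderOf_dvd_natCard v₀)
  let U : Subgroup H :=
    { carrier := {h | ρ h u = u ∧ ∀ v, ρ h v * v⁻¹ ∈ zpowers u}
      one_mem' := ⟨by simp, fun v => by simp⟩
      mul_mem' := fun {a b} ha hb => ⟨by rw [map_mul, MulAut.mul_apply, hb.1, ha.1], fun v => by
        have := mul_mem (ha.2 (ρ b v)) (hb.2 v)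
        rwa [mul_assoc, inv_mul_cancel_left, ← MulAut.mul_apply, ← map_mul] at this⟩
      inv_mem' := fun {a} ha => ⟨by rw [map_inv, MulAut.inv_def, MulEquiv.symm_apply_eq, ha.1], fun v => by
        have := inv_mem (ha.2 (ρ a⁻¹ v))
        rwa [← MulAut.mul_apply, ← map_mul, mul_inv_cancel, map_one, MulAut.one_apply, mul_inv_rev, inv_inv] at this⟩ }
  have hU : p ∣ Nat.card U := by
    obtain ⟨x, -, hx⟩ := exists_notMem (A := ⊤) (k := 0) (by simp) (card_zp hp u) h2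
    obtain ⟨g, g1, g2, g3⟩ := exists_hom hp hx u
    obtain ⟨f, f1, f2, f3⟩ := exists_hom hp hx x
    obtain ⟨y, y1, y2⟩ := exists_notMem (A := f.ker) (k := 1) (by simpa using index_ker_le hp f3) (card_zp hp u) h3
    obtain ⟨f', k1, k2, k3⟩ := exists_hom hp (B := zpowers u ⊔ zpowers x) (c := y) (fun e => by
      obtain ⟨a, ha, _, ⟨n, rfl⟩, rfl⟩ := mem_sup.1 e
      rw [MonoidHom.mem_ker, map_mul, f1 a ha, one_mul, map_zpow, f2] at y1
      exact y2 (by simpa only [y1, mul_one] using ha)) x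
    obtain ⟨_, ⟨h, rfl⟩, hh⟩ := exists_tv full (f := f') (g := g) (fun v => k1 _ (mem_sup_right (k3 v)))
      (fun v => g1 _ (g3 v)) fun v => k1 _ (mem_sup_left (g3 v))
    have k4 : ∀ v ∈ zpowers u, ρ h v = v := fun v hv => by rw [hh, k1 v (mem_sup_left hv), map_one, mul_one]
    have k5 : ∀ (n : ℕ) v, ρ (h ^ n) v = v * g (f' v) ^ n := fun n v => by
      induction n with
      | zero => simp
      | succ n ih => rw [pow_succ', map_mul, MulAut.mul_apply, ih, map_mul, hh, k4 _ (pow_mem (g3 _) n), pow_succ', mul_assoc]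
    exact orderOf_eq_prime (x := (⟨h, k4 u (mem_zpowers u), fun v => by
      rw [hh, mul_inv_cancel_comm]
      exact g3 _⟩ : U)) (Subtype.ext (hρ (MulEquiv.ext fun v => (k5 p v).trans (by simp [hp])))) (fun e => u1 (by
        have k6 := hh y
        rwa [show h = 1 from congrArg Subtype.val e, map_one, MulAut.one_apply, k2, g2, left_eq_mul] at k6)) ▸
      orderOf_dvd_natCard _
  obtain ⟨t, ⟨t1, t2⟩, t3, t4⟩ := exists_cent hP (U := U) (fun g hg h hh => by
    have k1 : ρ g u = u := u2 ⟨g, hg⟩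
    have k2 : ρ g⁻¹ u = u := u2 ⟨g⁻¹, inv_mem hg⟩
    refine ⟨by rw [map_mul, map_mul, MulAut.mul_apply, MulAut.mul_apply, k2, hh.1, k1], fun v => ?_⟩
    obtain ⟨n, hn⟩ := hh.2 (ρ g⁻¹ v)
    refine ⟨n, ?_⟩
    have k3 := congrArg (ρ g) hn
    simpa [k1] using k3) hU
  let φ : V →* V := (ρ t).toMonoidHom * (MonoidHom.id V)⁻¹
  have φ1 : ∀ v, ρ t v = v * φ v := fun v => (mul_inv_cancel_comm_assoc v _).symm
  have hcu : c t ∉ zpowers u := fun e => by
    obtain ⟨v, hv⟩ : ∃ v, φ v = (c t)⁻¹ := by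
      obtain ⟨x, hx⟩ : ∃ x, φ x ≠ 1 := by
        by_contra k
        push Not at k
        exact t3 (hρ (MulEquiv.ext fun v => by rw [φ1, k, map_one, mul_one, MulAut.one_apply]))
      obtain ⟨n, hn⟩ := zp_eq hp (t2 x : φ x ∈ _) hx (inv_mem e)
      exact ⟨x ^ n, (map_zpow φ x n).trans hn⟩
    have k1 : ∀ y, c t * ρ t y = y := fun y => by
      obtain ⟨g, hg, rfl⟩ := tr v y
      rw [map_mul, ← mul_assoc, ← hc, ← t4 g hg, hc, ← MulAut.mul_apply, ← map_mul, ← t4 g hg, map_mul ρ, MulAut.mul_apply,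
        mul_assoc, ← map_mul, φ1 v, hv, mul_comm v, mul_inv_cancel_left]
    have k2 := k1 1
    rw [map_one, mul_one] at k2
    exact t3 (hρ (MulEquiv.ext fun y => by simpa [k2] using k1 y))
  obtain ⟨f, f1, f2, f3⟩ := exists_hom hp hcu u
  obtain ⟨w, ⟨w1, w2⟩, w3⟩ := exists_notMem (A := f.ker ⊓ φ.ker) (k := 2) (index_inf_le.trans (by
    rw [pow_two]
    exact Nat.mul_le_mul (index_ker_le hp f3) (index_ker_le hp t2))) (card_zp hp u) h4
  obtain ⟨g, g1, g2, g3⟩ := exists_hom hp (B := zpowers w) (c := u) (fun e => w3 (zp_eq hp e u1 (mem_zpowers w))) w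
  obtain ⟨_, ⟨h, rfl⟩, hh⟩ := exists_tv full (f := f) (g := g) (fun v => f1 _ (f3 v)) (fun v => g1 _ (g3 v))
    fun v => kill w1 (g3 v)
  have k1 : h * t = t * h := hρ (MulEquiv.ext fun v => by
    rw [map_mul, map_mul, MulAut.mul_apply, MulAut.mul_apply, hh, hh, φ1, φ1, map_mul, map_mul φ, f1 (φ v) (t2 v),
      kill (f := φ) w2 (g3 _), mul_one, mul_one, mul_right_comm])
  have k2 := hc h t
  rw [k1, hc, hh, φ1, f2, g2, mul_left_comm, mul_right_inj, mul_right_inj] at k2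
  exact w3 (k2 ▸ t2 (c h))

end Cfsg.Agent.SM.Ot
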