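import Cfsg.Agent.SM.Fac
import Cfsg.Agent.SM.Ot.Lin
import Cfsg.Agent.H936.PSNonreg
import Cfsg.Agent.S3608
import Cfsg.Agent.H247.Syl64
import Cfsg.Agent.ClassicalGeometry.PSL2Basic
import Cfsg.Agent.PermutationGroups.SylowTransitive

/-!
# SM (S3570), box Oth: affine overgroups of an almost simple group (helper15)
-/

set_option autoImplicit false
set_option linter.unusedSectionVars false

namespace Cfsg.Agent.SM.Ot

open Cfsg Equiv Subgroup MulAction

variable {Ω : Type} [Fintype Ω] [DecidableEq Ω] {X H T M N V : Subgroup (Perm Ω)}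

theorem trans_nor (hp : IsPreprimitive M Ω) (h : Nor M N) (h0 : N ≠ ⊥) (a b : Ω) : ∃ n ∈ N, n a = b := by
  have := h.normal
  obtain ⟨t, ht, h1⟩ := (bot_or_exists_ne_one N).resolve_left h0
  have h2 : fixedPoints (N.subgroupOf M) Ω ≠ ⊤ := fun k => h1 (Perm.ext fun x => by
    have h3 : x ∈ fixedPoints (N.subgroupOf M) Ω := k.symm ▸ Set.mem_univ x
    exact h3 ⟨⟨t, h.le ht⟩, ht⟩)
  obtain ⟨g, hg⟩ := (IsQuasiPreprimitive.isPretransitive_of_normal h2).exists_smul_eq a b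
  exact ⟨g.1.1, g.2, hg⟩

theorem pretrans (tr : ∀ a b : Ω, ∃ n ∈ N, n a = b) : IsPretransitive N Ω :=
  ⟨fun a b => (tr a b).elim fun n h => ⟨⟨n, h.1⟩, h.2⟩⟩

theorem semi (tr : ∀ a b : Ω, ∃ n ∈ N, n a = b) {g : Perm Ω} (hc : ∀ n ∈ N, g * n = n * g) {a : Ω} (ha : g a = a) :
    g = 1 := Perm.ext fun b => by
  obtain ⟨n, hn, rfl⟩ := tr a b
  rw [← Perm.mul_apply, hc n hn, Perm.mul_apply, ha, Perm.one_apply]

theorem arith {n q e : ℕ} (hn : n ≤ 27) (hq : 2 ≤ q) (he : 2 ≤ e) (h : q ^ e - 1 = n * (q - 1)) : q ≤ 26 ∧ e ≤ 9 := by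
  obtain ⟨q, rfl⟩ := Nat.exists_eq_add_of_le' hq
  have h1 := Nat.pow_le_pow_right (n := q + 2) (by omega) he
  have h2 := Nat.pow_le_pow_left hq e
  have h3 : (q + 2) ^ e ≤ 27 * (q + 1) + 1 := by
    have := Nat.mul_le_mul_right (q + 2 - 1) hn
    simp only [show q + 2 - 1 = q + 1 from rfl] at this h
    omega
  have h4 : q + 2 ≤ 26 := by nlinarith
  exact ⟨h4, Nat.lt_succ_iff.1 ((Nat.pow_lt_pow_iff_right one_lt_two).1 (by omega))⟩

/-- simple transitive groups of degree `8`, `9`, `27` -/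
theorem idx (hT : Soc H T) (hp : IsPreprimitive H Ω) (hA : ¬ alternatingGroup Ω ≤ T) {p k : ℕ} (h1 : p.Prime) (hk : 1 ≤ k)
    (hn : Fintype.card Ω = p ^ k) (h : p ^ k = 8 ∨ p ^ k = 9 ∨ p ^ k = 27) :
    (p ^ k = 8 ∧ Nat.card T = 168) ∨ (p ^ k = 9 ∧ 7 ∣ Nat.card T) ∨ (p ^ k = 27 ∧ 5 ∣ Nat.card T) := by
  have := pretrans (hT.trans hp)
  have : Nontrivial Ω := Fintype.one_lt_card_iff_nontrivial.1 (by omega)
  obtain ⟨a⟩ : Nonempty Ω := inferInstance
  rcases S3608.result hT.simple hT.nab (stabilizer T a) p k h1 hk (by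
    rw [index_stabilizer_of_transitive, Nat.card_eq_fintype_card, hn]) with
      ⟨-, ⟨e⟩⟩ | ⟨d, F, _, _, h2, h3, ⟨e⟩⟩ | ⟨h2, -⟩ | ⟨h2, -⟩ | ⟨h2, ⟨e⟩⟩
  · have : Nontrivial (Fin (p ^ k)) := Fin.nontrivial_iff_two_le.2 (by omega)
    refine absurd (Perm.eq_alternatingGroup_of_index_eq_two (Nat.eq_of_mul_eq_mul_left (Nat.card_pos (α := T)) ?_)).ge hA
    rw [card_mul_index, Nat.card_congr e.toEquiv, mul_comm, two_mul_nat_card_alternatingGroup, Nat.card_perm, Nat.card_perm,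
      Nat.card_eq_fintype_card, hn, Nat.card_fin]
  · have h4 : 2 ≤ Fintype.card F := Fintype.one_lt_card
    obtain ⟨h5, h6⟩ := arith (by omega) h4 h2 h3
    have h7 : ∀ n ∈ [8, 9, 27], ∀ q ≤ 26, ∀ e ≤ 9, 2 ≤ q → 2 ≤ e → q ^ e - 1 = n * (q - 1) → e = 2 ∧ q + 1 = n := by
      decide +kernel
    obtain ⟨rfl, h8⟩ := h7 _ (by simpa using h) _ h5 _ h6 h4 h2 h3
    have h9 := ClassicalGeometry.PSL2Basic.card_PSL2_gcd (F := F)
    rw [← Nat.card_congr e.toEquiv] at h9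
    rcases h with h | h | h
    · rw [show Fintype.card F = 7 by omega] at h9
      exact Or.inl ⟨h, by norm_num at h9; omega⟩
    · rw [show Fintype.card F = 8 by omega] at h9
      exact Or.inr (Or.inl ⟨h, by norm_num at h9; omega⟩)
    · have h10 := FiniteField.isPrimePow_card F
      rw [show Fintype.card F = 26 by omega] at h10
      exact absurd h10 (by decide)
  · omega
  · omega
  · exact Or.inr (Or.inr ⟨h2, by rw [Nat.card_congr e.toEquiv, H247.Syl64.card_psp]; norm_num⟩)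

theorem aff_tr (hp : IsPreprimitive H Ω) (hM : M ∈ Ov X H) (hV : Aff M V) (a b : Ω) : ∃ n ∈ V, n a = b :=
  trans_nor (prim_of_le hM.2 hp) hV.toNor hV.ne a b

theorem aff_inf (hT : Soc H T) (hM : M ∈ Ov X H) (hV : Aff M V) {h : Perm Ω} (h1 : h ∈ H) (h2 : h ∈ V) : h = 1 := by
  by_contra h3
  have h4 := hT.as.le_of_conj (N := H ⊓ V) inf_le_left (fun g hg => (hV.toNor.inf hM.2).conj g (hT.le hg))
    fun e => h3 (mem_bot.1 (e.le ⟨h1, h2⟩))
  exact hT.nab ⟨⟨fun x y => Subtype.ext (hV.comm _ (h4 x.2).2 _ (h4 y.2).2)⟩⟩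

theorem aff_card (hp : IsPreprimitive H Ω) (hM : M ∈ Ov X H) (hV : Aff M V) (a : Ω) :
    Function.Bijective fun v : V => (v : Perm Ω) a :=
  ⟨fun v w e => Subtype.ext (inv_mul_eq_one.1 (semi (aff_tr hp hM hV) (hV.comm _ (mul_mem (inv_mem v.2) w.2))
    (a := a) (Perm.inv_eq_iff_eq.2 e.symm))), fun b => (aff_tr hp hM hV a b).elim fun n h => ⟨⟨n, h.1⟩, h.2⟩⟩

theorem aff_exp (hp : IsPreprimitive H Ω) (hM : M ∈ Ov X H) (hV : Aff M V) (a : Ω) :
    ∃ p : ℕ, p.Prime ∧ ∀ v ∈ V, v ^ p = 1 := by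
  obtain ⟨p, h1, h2⟩ := Nat.exists_prime_and_dvd (fun e => hV.ne (card_eq_one.1 e))
  have := Fact.mk h1
  obtain ⟨x, hx⟩ := exists_prime_orderOf_dvd_card' p h2
  let W : Subgroup (Perm Ω) :=
    { carrier := {v | v ∈ V ∧ v ^ p = 1}
      one_mem' := ⟨one_mem _, one_pow _⟩
      mul_mem' := fun {x y} hx hy => ⟨mul_mem hx.1 hy.1, by
        rw [Commute.mul_pow (hV.comm x hx.1 y hy.1), hx.2, hy.2, mul_one]⟩
      inv_mem' := fun {x} hx => ⟨inv_mem hx.1, by rw [inv_pow, hx.2, inv_one]⟩ }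
  refine ⟨p, h1, fun v hv => ?_⟩
  obtain ⟨w, hw, e⟩ := trans_nor (prim_of_le hM.2 hp) (N := W) ⟨fun x hx => hV.le hx.1, fun g hg x hx =>
    ⟨hV.conj g hg x hx.1, by rw [conj_pow, hx.2, mul_one, mul_inv_cancel]⟩⟩ (fun e => h1.one_lt.ne' (by
      rw [← hx, orderOf_eq_one_iff]
      exact Subtype.ext (mem_bot.1 (e.le ⟨x.2, by rw [← coe_pow, ← hx, pow_orderOf_eq_one, coe_one]⟩)))) a (v a)
  rw [← show w = v from congrArg Subtype.val ((aff_card hp hM hV a).1 (a₁ := ⟨w, hw.1⟩) (a₂ := ⟨v, hv⟩) e)]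
  exact hw.2

/-- **affine overgroups occur in degree eight only** -/
theorem aff_eight (s : Sec X H) (hp : IsPreprimitive H Ω) (hT : Soc H T) (hM : M ∈ Ov X H) (hV : Aff M V) :
    Fintype.card Ω = 8 ∧ ∀ v ∈ V, v ^ 2 = 1 := by
  have h5 := s.five
  obtain ⟨a⟩ : Nonempty Ω := Fintype.card_pos_iff.1 (by omega)
  obtain ⟨p, p1, p2⟩ := aff_exp hp hM hV a
  have := Fact.mk p1
  have tr := aff_tr hp hM hV
  have bij := aff_card hp hM hV a
  let : CommGroup V := { (inferInstance : Group V) with mul_comm := fun x y => Subtype.ext (hV.comm _ x.2 _ y.2) }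
  have p3 : ∀ v : V, v ^ p = 1 := fun v => Subtype.ext (p2 v v.2)
  obtain ⟨d, hd⟩ := IsPGroup.iff_card.1 (show IsPGroup p V from fun v => ⟨1, by rw [pow_one, p3]⟩)
  have hn : Fintype.card Ω = p ^ d := by rw [← hd, Nat.card_eq_of_bijective _ bij, Nat.card_eq_fintype_card]
  let ρ : H →* MulAut V := V.normalizerMonoidHom.comp (inclusion (hM.2.trans hV.le_normalizer))
  have ρ1 : ∀ (h : H) (v : V), (ρ h v : Perm Ω) = h * v * (h : Perm Ω)⁻¹ := fun _ _ => rfl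
  have hρ : Function.Injective ρ := (injective_iff_map_eq_one ρ).2 fun h e => by
    obtain ⟨v, hv, k⟩ := tr a (h.1 a)
    refine Subtype.ext (aff_inf hT hM hV h.2 (inv_mul_eq_one.1 (semi tr (a := a) (fun n hn => ?_) (Perm.inv_eq_iff_eq.2 k.symm)) ▸ hv))
    have k1 : n * h = h * n := eq_mul_inv_iff_mul_eq.1 ((congrArg Subtype.val (DFunLike.congr_fun e (⟨n, hn⟩ : V))).symm)
    rw [mul_assoc, ← k1, ← mul_assoc, hV.comm _ (inv_mem hv) _ hn, mul_assoc]
  have hMV := (s.le_or_mul hM hV.le fun g hg => hV.conj g (hM.2 hg)).resolve_left fun e =>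
    hV.ne (eq_bot_iff.2 fun v hv => aff_inf hT hM hV (e hv) hv)
  choose w w1 w2 using fun β : MulAut V => H936.exists_realize (pretrans tr) a β fun n =>
    ⟨fun e => by rw [bij.1 (a₂ := 1) e, map_one]; rfl, fun e => by rw [β.injective ((bij.1 (a₂ := 1) e).trans (map_one β).symm)]; rfl⟩
  have ev : ∀ (g : Perm Ω) (β : MulAut V), Perm.sign g = 1 → (∀ n : V, g * n * g⁻¹ = β n) → β ∈ ρ.range := fun g β g1 g2 => by
    obtain ⟨h, hh, x, hx, rfl⟩ := hMV g ((s.eq_normalizer hM hV.toNor hV.ne).ge ⟨s.alt g1, H936.mem_normalizer_of_realize g2⟩)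
    refine ⟨⟨h, hh⟩, MulEquiv.ext fun v => Subtype.ext ?_⟩
    rw [ρ1, ← g2, mul_assoc h x, hV.comm x hx _ v.2]
    group
  have wi : ∀ (β : MulAut V) (n : V), (w β)⁻¹ * n * (w β)⁻¹⁻¹ = β⁻¹ n := fun β n => by
    conv_lhs => rw [← β.apply_symm_apply n, ← w2]
    group
    rfl
  have full : ∀ β γ : MulAut V, β * γ * β⁻¹ * γ⁻¹ ∈ ρ.range := fun β γ => ev (w β * w γ * (w β)⁻¹ * (w γ)⁻¹) _ (by
      simp [mul_right_comm (Perm.sign (w β))]) fun n => by
    rw [MulAut.mul_apply, MulAut.mul_apply, MulAut.mul_apply, ← w2, ← w2, ← wi, ← wi]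
    group
  have h4 : d < 4 := not_le.1 fun h4 => by
    choose c hc using fun h : H => show ∃ v : V, v.1 a = h.1 a from bij.2 (h.1 a)
    have k1 : ∀ (h : H) (v : V), ((c h * ρ h v : V) : Perm Ω) a = h.1 (v.1 a) := fun h v => by
      rw [mul_comm, coe_mul, Perm.mul_apply, hc, ρ1, ← Perm.mul_apply, inv_mul_cancel_right, Perm.mul_apply]
    have := pretrans (N := H) fun x y => (hT.trans hp x y).imp fun t h => ⟨hT.le h.1, h.2⟩
    obtain ⟨P⟩ : Nonempty (Sylow p H) := inferInstance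
    have tP := PermutationGroups.SylowTransitive.isPretransitive_sylow (Nat.card_eq_fintype_card.trans hn) P
    refine no_four p3 ρ hρ c (fun g h => bij.1 ?_) full P.isPGroup' (fun v y => ?_) (hd ▸ Nat.pow_le_pow_right p1.pos h4)
    · exact (hc _).trans ((k1 g (c h)).trans (congrArg g.1 (hc h))).symm
    · obtain ⟨g, hg⟩ := tP.exists_smul_eq (v.1 a) (y.1 a)
      exact ⟨g, g.2, bij.1 ((k1 g v).trans hg)⟩
  have h23 : p = 2 ∨ p = 3 := by
    refine (eq_or_ne p 2).imp_right fun h2 => ?_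
    let β : MulAut V := MulEquiv.ofBijective (powMonoidHom 2) (powCoprime (n := 2) (by
      rw [hd]
      exact ((Nat.coprime_primes p1 Nat.prime_two).2 h2).pow_left d)).bijective
    obtain ⟨h, hh⟩ := ev (w β * w β) (β * β) (by simp) fun n => by
      rw [MulAut.mul_apply, ← w2, ← w2]
      group
    have k1 : h = 1 := Subtype.ext (hT.cen h h.2 fun t ht => congrArg Subtype.val (hρ (a₁ := h * ⟨t, hT.le ht⟩) (a₂ := ⟨t, hT.le ht⟩ * h) (by
      rw [map_mul, map_mul, hh]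
      exact MulEquiv.ext fun v => (show (ρ _ v ^ 2) ^ 2 = ρ _ ((v ^ 2) ^ 2) by rw [map_pow, map_pow]))))
    obtain ⟨v, hv, v1⟩ := (bot_or_exists_ne_one V).resolve_left hV.ne
    have k2 : (⟨v, hv⟩ : V) = (⟨v, hv⟩ ^ 2) ^ 2 := by
      rw [k1, map_one] at hh
      exact DFunLike.congr_fun hh ⟨v, hv⟩
    rw [← pow_mul, pow_succ, right_eq_mul, ← orderOf_dvd_iff_pow_eq_one,
      orderOf_eq_prime (p3 _) fun e => v1 (congrArg Subtype.val e)] at k2
    exact (Nat.prime_dvd_prime_iff_eq p1 Nat.prime_three).1 k2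
  have key : ∀ l : ℕ, l.Prime → l ∣ Nat.card T → ∃ i < d, p ^ d ≡ p ^ i [MOD l] := fun l l1 l2 => by
    have := Fact.mk l1
    obtain ⟨x, hx⟩ := exists_prime_orderOf_dvd_card' l l2
    obtain ⟨C, c1, c2⟩ := card_mod (IsPGroup.of_card (n := 1) (by rw [Nat.card_zpowers, hx, pow_one]) : IsPGroup l (zpowers x))
      ((ρ.comp (inclusion hT.le)).comp (zpowers x).subtype)
    obtain ⟨i, i1, i2⟩ := (Nat.dvd_prime_pow p1).1 (hd ▸ card_subgroup_dvd_card C)
    refine ⟨i, lt_of_le_of_ne i1 fun e => l1.one_lt.ne' ?_, by rwa [hd, i2] at c2⟩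
    rw [← hx, orderOf_eq_one_iff]
    refine inclusion_injective hT.le (hρ (MulEquiv.ext fun v => ?_))
    rw [map_one, map_one]
    exact (c1 v).1 ((eq_top_of_card_eq C (by rw [i2, e, hd])).ge (mem_top v)) ⟨x, mem_zpowers x⟩
  have hA : ¬ alternatingGroup Ω ≤ T := fun e => s.not_alt_le_H (e.trans hT.le)
  rcases h23 with rfl | rfl
  · refine ⟨?_, p2⟩
    interval_cases d <;> omega
  · exfalso
    have h6 : d = 2 ∨ d = 3 := by interval_cases d <;> omega
    rcases idx hT hp hA p1 (by omega) hn (by rcases h6 with rfl | rfl <;> simp) with ⟨h7, -⟩ | ⟨h7, h8⟩ | ⟨h7, h8⟩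
    · rcases h6 with rfl | rfl <;> omega
    · obtain ⟨i, i1, i2⟩ := key 7 (by norm_num) h8
      rcases h6 with rfl | rfl
      · interval_cases i <;> exact absurd i2 (by decide)
      · omega
    · obtain ⟨i, i1, i2⟩ := key 5 (by norm_num) h8
      rcases h6 with rfl | rfl
      · omega
      · interval_cases i <;> exact absurd i2 (by decide)

/-- the count in degree eight -/
theorem aff_count (s : Sec X H) (hp : IsPreprimitive H Ω) (hT : Soc H T) (h8 : Fintype.card Ω = 8) :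
    {M | M ∈ Ov X H ∧ ∃ V, Aff M V}.ncard ≤ 8 := by
  obtain ⟨a⟩ : Nonempty Ω := Fintype.card_pos_iff.1 (by omega)
  have := pretrans (N := H) fun x y => (hT.trans hp x y).imp fun t h => ⟨hT.le h.1, h.2⟩
  obtain ⟨P⟩ : Nonempty (Sylow 2 H) := inferInstance
  have tP := PermutationGroups.SylowTransitive.isPretransitive_sylow (f := 3) (Nat.card_eq_fintype_card.trans h8) P
  have h1 : ∀ M : {M | M ∈ Ov X H ∧ ∃ V, Aff M V}, ∃ v ∈ M.1, v ∉ H ∧ ∀ g ∈ P.1.map H.subtype, g * v = v * g := fun M => by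
    obtain ⟨M, hM, V, hV⟩ := M
    obtain ⟨v, v1, v2, v3⟩ := exists_cent (U := V) (P.isPGroup'.map H.subtype)
      (fun g hg => hV.conj g (hM.2 (map_subtype_le _ hg))) (by
        rw [Nat.card_eq_of_bijective _ (aff_card hp hM hV a), Nat.card_eq_fintype_card, h8]
        norm_num)
    exact ⟨v, hV.le v1, fun e => v2 (aff_inf hT hM hV e v1), v3⟩
  choose v v1 v2 v3 using h1
  rw [← Nat.card_coe_set_eq, ← h8, ← Nat.card_eq_fintype_card]
  refine Nat.card_le_card_of_injective (fun M => v M a) fun M M' e => Subtype.ext (s.eq_of_mem M.2.1 M'.2.1 (v1 M) ?_ (v2 M))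
  rw [inv_mul_eq_one.1 (semi (N := P.1.map H.subtype) (fun x y => (tP.exists_smul_eq x y).elim fun g h => ⟨g.1.1, ⟨g.1, g.2, rfl⟩, h⟩)
    (g := (v M)⁻¹ * v M') (fun n hn => (Commute.inv_left (v3 M n hn).symm).mul_left (v3 M' n hn).symm) (a := a)
      (Perm.inv_eq_iff_eq.2 e.symm))]
  exact v1 M'

/-- no other almost simple overgroups in degree eight -/
theorem soc_eight (s : Sec X H) (hp : IsPreprimitive H Ω) (hT : Soc H T) (h8 : Fintype.card Ω = 8) (hM : M ∈ Ov X H)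
    {S : Subgroup (Perm Ω)} (hS : Soc M S) : S = T := by
  have h1 : ∀ {H T : Subgroup (Perm Ω)}, Soc H T → IsPreprimitive H Ω → ¬ alternatingGroup Ω ≤ H → Nat.card T = 168 :=
    fun h1 h2 h3 => by
      rcases idx h1 h2 (fun e => h3 (e.trans h1.le)) Nat.prime_two (k := 3) (by norm_num) h8 (Or.inl rfl) with h | h | h
      · exact h.2
      · exact absurd h.1 (by norm_num)
      · exact absurd h.1 (by norm_num)
  by_contra h2
  exact h2 (eq_of_le_of_card_ge (Up.le ⟨s, hp, hT, hM, hS, h2⟩)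
    (by rw [h1 hT hp s.not_alt_le_H, h1 hS (prim_of_le hM.2 hp) (s.not_alt_le hM)])).symm

end Cfsg.Agent.SM.Ot
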