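import Cfsg.Agent.SM.Ot.Aff
import Cfsg.Agent.S0723

/-!
# SM (S3570), box Oth: the socle of an overgroup which is neither affine nor almost simple (helper15)
-/

set_option autoImplicit false
set_option linter.unusedSectionVars false

namespace Cfsg.Agent.SM.Ot

open Cfsg Equiv Subgroup MulAction
open Cfsg.Agent.H936 (cjHom fperm)

variable {Ω : Type} [Fintype Ω] [DecidableEq Ω] {X H T M N V : Subgroup (Perm Ω)}

/-- the socle is not regular -/
theorem lt_card (hT : Soc H T) (hp : IsPreprimitive H Ω) (h2 : 2 ≤ Fintype.card Ω) : Nat.card Ω < Nat.card T := by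
  have : Nontrivial Ω := Fintype.one_lt_card_iff_nontrivial.1 h2
  obtain ⟨a, b, hab⟩ := exists_pair_ne Ω
  refine not_le.1 fun h => hab (hT.eq_of_fix hp h2 fun t ht e => ?_).symm
  have h1 : Function.Surjective fun t : T => t.1 a := fun b => (hT.trans hp a b).elim fun t h => ⟨⟨t, h.1⟩, h.2⟩
  rw [show t = 1 from congrArg Subtype.val (((Nat.bijective_iff_surjective_and_card _).2
    ⟨h1, le_antisymm h (Nat.card_le_card_of_surjective _ h1)⟩).1 (a₁ := ⟨t, ht⟩) (a₂ := 1) e), Perm.one_apply]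

theorem cen_nor (s : Sec X H) (hp : IsPreprimitive H Ω) (hT : Soc H T) (hM : M ∈ Ov X H) (naf : ∀ V, ¬ Aff M V)
    (hN : Nor M N) (h0 : N ≠ ⊥) {g : Perm Ω} (hg : g ∈ M) (hc : ∀ n ∈ N, g * n = n * g) : g = 1 := by
  by_contra g1
  have h2 : 2 ≤ Fintype.card Ω := le_trans (by norm_num) s.five
  obtain ⟨a⟩ : Nonempty Ω := Fintype.card_pos_iff.1 (by omega)
  let C := M ⊓ centralizer (N : Set (Perm Ω))
  have hC : Nor M C := ⟨inf_le_left, fun g hg x hx => ⟨(Nor.refl M).conj g hg x hx.1, fun n hn => by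
    calc n * (g * x * g⁻¹) = g * (g⁻¹ * n * g⁻¹⁻¹ * x) * g⁻¹ := by group
      _ = _ := by rw [hx.2 _ (hN.conj _ (inv_mem hg) n hn)]; group⟩⟩
  have gC : g ∈ C := ⟨hg, fun n hn => (hc n hn).symm⟩
  have h3 : ∀ x ∈ N, x ∈ C → x = 1 := fun x x1 x2 => by_contra fun x3 =>
    naf (N ⊓ C) ⟨⟨inf_le_left.trans hN.le, fun g hg x hx => ⟨hN.conj g hg x hx.1, hC.conj g hg x hx.2⟩⟩,
      fun e => x3 (mem_bot.1 (e.le ⟨x1, x2⟩)), fun x hx y hy => hy.2.2 x hx.1⟩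
  have h4 : ∀ L, Nor M L → ∀ x ∈ H, x ∈ L → x ≠ 1 → T ≤ L := fun L hL x x1 x2 x3 =>
    (hT.as.le_of_conj (N := H ⊓ L) inf_le_left (fun g hg => (hL.inf hM.2).conj g (hT.le hg))
      fun e => x3 (mem_bot.1 (e.le ⟨x1, x2⟩))).trans inf_le_right
  have h5 : ∀ x ∈ H, x ∈ N → x = 1 := fun x x1 x2 => by_contra fun x3 =>
    g1 (hT.cen_sym hp h2 fun t ht => hc t (h4 N hN x x1 x2 x3 ht))
  let D : Subgroup (Perm Ω) :=
    { carrier := {g | ∃ c ∈ C, g * c⁻¹ ∈ N}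
      one_mem' := ⟨1, one_mem _, by simp⟩
      mul_mem' := by
        rintro x y ⟨c, c1, c2⟩ ⟨d, d1, d2⟩
        refine ⟨c * d, mul_mem c1 d1, ?_⟩
        rw [show x * y * (c * d)⁻¹ = x * c⁻¹ * (c * (y * d⁻¹) * c⁻¹) by group]
        exact mul_mem c2 (hN.conj c c1.1 _ d2)
      inv_mem' := by
        rintro x ⟨c, c1, c2⟩
        refine ⟨c⁻¹, inv_mem c1, ?_⟩
        rw [show x⁻¹ * c⁻¹⁻¹ = c⁻¹ * (x * c⁻¹)⁻¹ * c⁻¹⁻¹ by group]
        exact hN.conj _ (inv_mem c1.1) _ (inv_mem c2) }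
  obtain ⟨h, hh, x, hx, e⟩ := (s.le_or_mul hM hN.le fun g hg => hN.conj g (hM.2 hg)).resolve_left
    (fun e => h0 (eq_bot_iff.2 fun x hx => h5 x (e hx) hx)) g hg
  choose c c1 c2 using fun t : T => h4 D ⟨by
      rintro x ⟨c, c1, c2⟩
      exact (M.mul_mem_cancel_right (M.inv_mem (mem_inf.1 c1).1)).1 (hN.le c2), by
      rintro g hg x ⟨c, c1, c2⟩
      refine ⟨_, hC.conj g hg c c1, ?_⟩
      rw [show g * x * g⁻¹ * (g * c * g⁻¹)⁻¹ = g * (x * c⁻¹) * g⁻¹ by group]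
      exact hN.conj g hg _ c2⟩ h hh ⟨g, gC, by
      rw [e, show h * (h * x)⁻¹ = h * x⁻¹ * h⁻¹ by group]
      exact hN.conj h (hM.2 hh) _ (inv_mem hx)⟩ (fun k => g1 (h3 g (by rwa [e, k, one_mul]) gC)) t.2
  refine (lt_card hT hp h2).not_ge (Nat.card_le_card_of_injective (fun t => c t a) fun t u k => ?_)
  have k1 := inv_mul_eq_one.1 (semi (trans_nor (prim_of_le hM.2 hp) hN h0) (g := (c t)⁻¹ * c u)
    (fun n hn => ((mul_mem (inv_mem (c1 t)) (c1 u)).2 n hn).symm) (a := a) (Perm.inv_eq_iff_eq.2 k.symm))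
  refine Subtype.ext (mul_inv_eq_one.1 (h5 _ (hT.le (mul_mem t.2 (inv_mem u.2))) ?_))
  have k2 := mul_mem (c2 t) (inv_mem (c2 u))
  rwa [k1, mul_inv_rev, inv_inv, mul_assoc, inv_mul_cancel_left] at k2

/-- the unique minimal normal subgroup -/
theorem exists_min (s : Sec X H) (hp : IsPreprimitive H Ω) (hT : Soc H T) (hM : M ∈ Ov X H) (naf : ∀ V, ¬ Aff M V) :
    ∃ N, Nor M N ∧ N ≠ ⊥ ∧ ∀ L, Nor M L → L ≠ ⊥ → N ≤ L := by
  obtain ⟨N, ⟨h1, h2⟩, h3⟩ := WellFounded.has_min (wellFounded_lt (α := Subgroup (Perm Ω))) {L | Nor M L ∧ L ≠ ⊥}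
    ⟨M, Nor.refl M, fun e => hT.ne (eq_bot_iff.2 (hT.le.trans (hM.2.trans e.le)))⟩
  refine ⟨N, h1, h2, fun L l1 l2 => inf_eq_left.1 ((eq_or_lt_of_le inf_le_left).resolve_right (h3 _
    ⟨⟨inf_le_left.trans h1.le, fun g hg x hx => ⟨h1.conj g hg x hx.1, l1.conj g hg x hx.2⟩⟩, fun e => l2 (eq_bot_iff.2 fun x hx =>
      cen_nor s hp hT hM naf h1 h2 (l1.le hx) fun n hn => ?_)⟩))⟩
  have k : x * n * x⁻¹ * n⁻¹ ∈ N ⊓ L := ⟨N.mul_mem (h1.conj x (l1.le hx) n hn) (N.inv_mem hn), by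
    rw [show x * n * x⁻¹ * n⁻¹ = x * (n * x⁻¹ * n⁻¹) by group]
    exact L.mul_mem hx (l1.conj n (h1.le hn) _ (L.inv_mem hx))⟩
  rwa [e, mem_bot, mul_inv_eq_one, mul_inv_eq_iff_eq_mul] at k

theorem ons (hp : IsPreprimitive M Ω) (hN : Nor M N) (h0 : N ≠ ⊥) (hle : ∀ L, Nor M L → L ≠ ⊥ → N ≤ L)
    (naf : ∀ V, ¬ Aff M V) (a : Ω) : ∃ (S : Type) (_ : Group S) (m : ℕ) (e : N ≃* (Fin m → S)), IsSimpleGroup S ∧
      ¬ IsMulCommutative S ∧ 0 < m ∧ ((∃ K : Fin m → Subgroup S, (∀ i, K i ≠ ⊤) ∧ ∀ n : N, n.1 a = a ↔ ∀ i, e n i ∈ K i) ∨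
        ∃ (k : ℕ) (c : Fin m → Fin m), 2 ≤ k ∧
          (∀ j, Nat.card {i // c i = j} = k ∨ Nat.card {i // c i = j} = 0) ∧
            ∀ n : N, n.1 a = a ↔ ∀ i j, c i = c j → e n i = e n j) := by
  have := hN.normal
  have h1 : ∀ L : Subgroup M, L.Normal → L ≠ ⊥ → N.subgroupOf M ≤ L := fun L l1 l2 =>
    (comap_mono (hle _ (Nor.of_normal L) fun e => l2 ((map_eq_bot_iff_of_injective _ M.subtype_injective).1 e))).trans
      (comap_map_eq_self_of_injective M.subtype_injective L).le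
  have h2 : N.subgroupOf M ≠ ⊥ := fun e => h0 (by rw [← inf_eq_left.2 hN.le, ← disjoint_iff, ← subgroupOf_eq_bot, e])
  obtain ⟨S, _, m, e, k1, k2, k3, k4⟩ := S0723.result M (N.subgroupOf M) h2
    (fun L l1 l2 => (eq_or_ne L ⊥).imp_right fun l3 => le_antisymm l2 (h1 L l1 l3))
    (fun L l1 l2 l3 => ((l3 _ this (h1 L l1 l2)).resolve_left h2).symm)
    (fun k => naf N ⟨hN, h0, fun x hx y hy => congrArg (fun z : N.subgroupOf M => z.1.1)
      (k.1.1 ⟨⟨x, hN.le hx⟩, hx⟩ ⟨⟨y, hN.le hy⟩, hy⟩)⟩) a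
  refine ⟨S, inferInstance, m, (subgroupOfEquivOfLe hN.le).symm.trans e, k1, k2, k3, k4.imp ?_ ?_⟩
  · exact fun ⟨K, k5, k6⟩ => ⟨K, k5, fun n => k6 ((subgroupOfEquivOfLe hN.le).symm n)⟩
  · exact fun ⟨k, c, k5, k6, k7⟩ => ⟨k, c, k5, k6, fun n => k7 ((subgroupOfEquivOfLe hN.le).symm n)⟩

variable {S : Type} [Group S] {m : ℕ}

/-- the degree in the diagonal case -/
theorem diag_dvd (tr : ∀ a b : Ω, ∃ n ∈ N, n a = b) (e : N ≃* (Fin m → S)) (hm : 0 < m) {a : Ω} {k : ℕ} {c : Fin m → Fin m}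
    (h2 : 2 ≤ k) (h3 : ∀ j, Nat.card {i // c i = j} = k ∨ Nat.card {i // c i = j} = 0)
    (h4 : ∀ n : N, n.1 a = a ↔ ∀ i j, c i = c j → e n i = e n j) : ∃ j, m ≤ 2 * j ∧ Nat.card S ^ j ∣ Nat.card Ω := by
  have := pretrans tr
  have h5 := Finset.mul_card_image_le_card (f := c) Finset.univ 2 fun j hj => by
    obtain ⟨i, -, rfl⟩ := Finset.mem_image.1 hj
    have : Nonempty {j // c j = c i} := ⟨⟨i, rfl⟩⟩
    rw [← Fintype.card_subtype, ← Nat.card_eq_fintype_card, (h3 _).resolve_right Nat.card_pos.ne']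
    exact h2
  rw [Finset.card_univ, Fintype.card_fin] at h5
  choose r r1 r2 using fun j : Finset.univ.image c => Finset.mem_image.1 j.2
  have h6 := card_dvd_of_injective (((MonoidHom.pi fun j => Pi.evalMonoidHom (fun _ => S) (r j)).comp e.toMonoidHom).comp
    (stabilizer N a).subtype) ((injective_iff_map_eq_one _).2 fun n hn => Subtype.ext (e.injective ((funext fun i =>
      ((h4 n).1 n.2 _ _ (r2 ⟨c i, Finset.mem_image_of_mem c (Finset.mem_univ i)⟩).symm).trans (congrFun hn _)).trans (map_one e).symm)))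
  have h7 := (stabilizer N a).card_mul_index
  rw [index_stabilizer_of_transitive, Nat.card_congr e.toEquiv, Nat.card_fun, Nat.card_fin] at h7
  rw [Nat.card_fun, Nat.card_eq_fintype_card (α := Finset.univ.image c), Fintype.card_coe] at h6
  have h8 : 0 < Nat.card S := Nat.pos_of_ne_zero fun k => by
    rw [k, zero_pow hm.ne'] at h7
    have : Nonempty Ω := ⟨a⟩
    exact (mul_pos Nat.card_pos Nat.card_pos).ne' h7
  refine ⟨m - (Finset.univ.image c).card, by omega, Nat.dvd_of_mul_dvd_mul_left (pow_pos h8 (Finset.univ.image c).card) ?_⟩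
  rw [← pow_add, Nat.add_sub_cancel' (by omega), ← h7]
  exact Nat.mul_dvd_mul_right h6 _

/-- the degree in the product case -/
theorem prod_card (tr : ∀ a b : Ω, ∃ n ∈ N, n a = b) (e : N ≃* (Fin m → S)) {a : Ω} {K : Fin m → Subgroup S}
    (h4 : ∀ n : N, n.1 a = a ↔ ∀ i, e n i ∈ K i) : Nat.card Ω = ∏ i, (K i).index := by
  have := pretrans tr
  rw [← index_stabilizer_of_transitive N a, show stabilizer N a = (Subgroup.pi Set.univ K).comap e.toMonoidHom from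
    Subgroup.ext fun n => (h4 n).trans ⟨fun h i _ => h i, fun h i => h i trivial⟩,
    index_comap_of_surjective _ e.surjective, index_pi]

theorem prod_index [IsSimpleGroup S] (hS : ¬ IsMulCommutative S) (tr : ∀ a b : Ω, ∃ n ∈ N, n a = b) (hN : Nor M N)
    (hle : ∀ L, Nor M L → L ≠ ⊥ → N ≤ L) (e : N ≃* (Fin m → S)) {a : Ω} {K : Fin m → Subgroup S}
    (h4 : ∀ n : N, n.1 a = a ↔ ∀ i, e n i ∈ K i) (i j : Fin m) : (K i).index = (K j).index := by
  obtain ⟨v, v1, v2, v3⟩ := H936.exists_fperm (pretrans tr) a hN.le hN.le_normalizer (fun L l1 l2 => (eq_or_ne L ⊥).imp_right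
    fun l3 => le_antisymm l1 (hle L (Nor.of_le (l1.trans hN.le) l2) l3)) hS e i j
  obtain ⟨φ, hφ⟩ := H936.AutPow.perm_spec hS (cjHom e ⟨v, hN.le_normalizer v1⟩)
  rw [← index_comap_of_surjective (K j) (f := (φ i).toMonoidHom) (φ i).surjective]
  refine congrArg _ (Subgroup.ext fun t => ?_)
  have k1 := H936.cjHom_apply e ⟨v, hN.le_normalizer v1⟩ (e.symm (Pi.mulSingle i t)) ⟨_, hN.conj v v1 _ (e.symm _).2⟩ rfl
  rw [e.apply_symm_apply] at k1
  have k2 := h4 (e.symm (Pi.mulSingle i t))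
  have k3 := h4 ⟨_, hN.conj v v1 _ (e.symm (Pi.mulSingle i t)).2⟩
  rw [e.apply_symm_apply] at k2
  rw [← k1, Perm.mul_apply, Perm.mul_apply, Perm.inv_eq_iff_eq.2 v2.symm, ← Perm.eq_inv_iff_eq, Perm.inv_eq_iff_eq.2 v2.symm, k2] at k3
  constructor
  · intro h
    have k4 := k3.1 (fun l => by
      by_cases k : l = i
      · rwa [k, Pi.mulSingle_eq_same]
      · rw [Pi.mulSingle_eq_of_ne k]
        exact one_mem _) j
    rwa [← v3, show fperm hS e _ i = H936.AutPow.perm hS (cjHom e ⟨v, hN.le_normalizer v1⟩) i from rfl, hφ, Pi.mulSingle_eq_same,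
      show H936.AutPow.perm hS (cjHom e ⟨v, hN.le_normalizer v1⟩) i = j from v3] at k4
  · intro h
    have k4 := k3.2 (fun l => by
      obtain ⟨l, rfl⟩ := (H936.AutPow.perm hS (cjHom e ⟨v, hN.le_normalizer v1⟩)).surjective l
      rw [hφ]
      by_cases k : l = i
      · rwa [k, Pi.mulSingle_eq_same, show H936.AutPow.perm hS (cjHom e ⟨v, hN.le_normalizer v1⟩) i = j from v3]
      · rw [Pi.mulSingle_eq_of_ne k, map_one]
        exact one_mem _) i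
    rwa [Pi.mulSingle_eq_same] at k4

theorem not_pow_dvd {p j m : ℕ} (hp : p.Prime) (hm : 0 < m) (h : m ≤ (p - 1) * j) : ¬ p ^ j ∣ m.factorial := fun k => by
  have := Fact.mk hp
  have h1 := sub_one_mul_padicValNat_factorial_lt_of_ne_zero (p := p) hm.ne'
  have h2 := Nat.mul_le_mul_left (p - 1) ((padicValNat_dvd_iff_le (Nat.factorial_ne_zero m)).1 k)
  omega

theorem exists_odd [Finite S] [IsSimpleGroup S] (hS : ¬ IsMulCommutative S) : ∃ p, p.Prime ∧ 3 ≤ p ∧ p ∣ Nat.card S := by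
  by_contra h
  have h1 : IsPGroup 2 S := IsPGroup.of_card (Nat.eq_prime_pow_of_unique_prime_dvd Nat.card_pos.ne' fun {r} hr hd =>
    by_contra fun k => h ⟨r, hr, lt_of_le_of_ne hr.two_le (Ne.symm k), hd⟩)
  have := h1.isNilpotent
  exact hS ⟨⟨IsSimpleGroup.comm_iff_isSolvable.2 inferInstance⟩⟩

end Cfsg.Agent.SM.Ot
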