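import Cfsg.Agent.SM.Ot.ProdA

/-!
# SM (S3570), box Oth: the socle of `H` is a full diagonal of the socle of the overgroup (helper15)
-/

set_option autoImplicit false
set_option linter.unusedSectionVars false

namespace Cfsg.Agent.SM.Ot

open Cfsg Equiv Subgroup MulAction
open Cfsg.Agent.H936 (cjHom fperm)

variable {Ω : Type} [Fintype Ω] [DecidableEq Ω] {X H T M N V : Subgroup (Perm Ω)} {S : Type} [Group S] {m : ℕ}

/-- the kernel of a projection -/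
def kr (e : N ≃* (Fin m → S)) (i : Fin m) : Subgroup (Perm Ω) :=
  ((Pi.evalMonoidHom (fun _ => S) i).comp e.toMonoidHom).ker.map N.subtype

theorem mem_kr (e : N ≃* (Fin m → S)) (i : Fin m) (n : N) : n.1 ∈ kr e i ↔ e n i = 1 :=
  mem_map_iff_mem N.subtype_injective

theorem kr_nor (e : N ≃* (Fin m → S)) (i : Fin m) : Nor N (kr e i) := Nor.of_normal _

theorem single_kr (e : N ≃* (Fin m → S)) {i j : Fin m} (h : i ≠ j) (x : S) : (e.symm (Pi.mulSingle j x)).1 ∈ kr e i := by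
  rw [mem_kr, e.apply_symm_apply, Pi.mulSingle_eq_of_ne h]

theorem single_ne (e : N ≃* (Fin m → S)) (j : Fin m) {x : S} (h : x ≠ 1) : (e.symm (Pi.mulSingle j x)).1 ≠ 1 := fun k => by
  have h1 := congrFun (congrArg e (Subtype.ext k : e.symm (Pi.mulSingle j x) = 1)) j
  rw [e.apply_symm_apply, Pi.mulSingle_eq_same, map_one] at h1
  exact h h1

theorem not_all (hT : Soc H T) (e : N ≃* (Fin m → S)) (j : Fin m) : ¬ ∀ i, T ≤ kr e i := fun h => by
  obtain ⟨t, ht, h1⟩ := (bot_or_exists_ne_one T).resolve_left hT.ne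
  have h2 := (kr_nor e j).le (h j ht)
  exact h1 (congrArg Subtype.val (e.injective ((funext fun i => (mem_kr e i ⟨t, h2⟩).1 (h i ht)).trans (map_one e).symm)))

variable [IsSimpleGroup S]

theorem two_le (s : Sec X H) (hp : IsPreprimitive H Ω) (hT : Soc H T) (hM : M ∈ Ov X H) (naf : ∀ V, ¬ Aff M V)
    (nas : ∀ S, ¬ Soc M S) (hN : Nor M N) (h0 : N ≠ ⊥) (hS : ¬ IsMulCommutative S) (e : N ≃* (Fin m → S)) (hm : 0 < m) :
    2 ≤ m := by
  by_contra h
  obtain rfl : m = 1 := by omega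
  have e' := e.trans (MulEquiv.funUnique (Fin 1) S)
  exact nas N ⟨hN, e'.isSimpleGroup, fun k => hS ⟨⟨fun a b => e'.symm.injective (by rw [map_mul, map_mul, k.1.1])⟩⟩,
    fun g hg => cen_nor s hp hT hM naf hN h0 hg⟩

theorem eq_mul (s : Sec X H) (hT : Soc H T) (hM : M ∈ Ov X H) (hN : Nor M N) (h0 : N ≠ ⊥) (e : N ≃* (Fin m → S))
    (hm : 2 ≤ m) : ∀ g ∈ M, ∃ h ∈ H, ∃ n ∈ N, g = h * n := by
  refine (s.le_or_mul hM hN.le fun g hg => hN.conj g (hM.2 hg)).resolve_left fun h => not_all hT e ⟨0, by omega⟩ fun i => ?_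
  have h1 := hT.as.le_of_conj h (fun g hg => hN.conj g (hM.2 (hT.le hg))) h0
  have : Nontrivial (Fin m) := Fin.nontrivial_iff_two_le.2 hm
  obtain ⟨j, hj⟩ := exists_ne i
  obtain ⟨x, hx⟩ := exists_ne (1 : S)
  exact hT.as.le_of_conj ((kr_nor e i).le.trans h) (fun g hg => (kr_nor e i).conj g (h1 hg))
    fun k => single_ne e j hx (mem_bot.1 (k.le (single_kr e hj.symm x)))

/-- the socle of `H` lies in `N` -/
theorem le_soc [Finite S] (s : Sec X H) (hp : IsPreprimitive H Ω) (hT : Soc H T) (hM : M ∈ Ov X H) (naf : ∀ V, ¬ Aff M V)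
    (hN : Nor M N) (h0 : N ≠ ⊥) (hS : ¬ IsMulCommutative S) (e : N ≃* (Fin m → S)) (hd : ¬ Nat.card Ω ∣ m.factorial) :
    T ≤ N := by
  have := hT.simple
  have h1 := hT.le.trans (hM.2.trans hN.le_normalizer)
  obtain ⟨a⟩ : Nonempty Ω := Fintype.card_pos_iff.1 (by have := s.five; omega)
  rcases (inferInstance : ((fperm hS e).comp (inclusion h1)).ker.Normal).eq_bot_or_eq_top with k | k
  · have := pretrans (hT.trans hp)
    have h2 := card_dvd_of_injective _ ((MonoidHom.ker_eq_bot_iff _).1 k)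
    rw [Nat.card_perm, Nat.card_fin] at h2
    exact absurd (((index_stabilizer_of_transitive T a).symm ▸ (stabilizer T a).index_dvd_card :).trans h2) hd
  · intro t ht
    obtain ⟨n, hn⟩ := (S5758.result (G := S)).solvable
    obtain ⟨y, hy⟩ := H936.AutPow.map_derivedSeries_le_conj hS (H936.ds_of_quotient (Inn S) le_rfl hn)
      ((cjHom e).comp (inclusion h1)) (fun t => k.ge (mem_top t)) (k := ⟨t, ht⟩)
      (((H936.ps_zero_simple hT.nab).eq (Nat.zero_le n)).ge (mem_top _))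
    obtain ⟨y, rfl⟩ := e.surjective y
    have h2 := cen_nor s hp hT hM naf hN h0 (mul_mem (inv_mem (hN.le y.2)) (hM.2 (hT.le ht))) fun x hx => by
      have h3 := H936.cjHom_apply e ⟨t, h1 ht⟩ ⟨x, hx⟩ ⟨_, hN.conj t (hM.2 (hT.le ht)) x hx⟩ rfl
      rw [show cjHom e ⟨t, h1 ht⟩ = _ from hy, MulAut.conj_apply, ← map_inv, ← map_mul, ← map_mul] at h3
      have h4 : y.1 * x * y.1⁻¹ = t * x * t⁻¹ := congrArg Subtype.val (e.injective h3)
      calc y.1⁻¹ * t * x = y.1⁻¹ * (t * x * t⁻¹) * t := by group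
        _ = _ := by rw [← h4]; group
    rw [← inv_mul_eq_one.1 h2]
    exact y.2

/-- the projections of `T` -/
def pj (e : N ≃* (Fin m → S)) (h : T ≤ N) (i : Fin m) : T →* S :=
  ((Pi.evalMonoidHom (fun _ => S) i).comp e.toMonoidHom).comp (inclusion h)

theorem pj_inj (hp : IsPreprimitive H Ω) (hT : Soc H T) (hM : H ≤ M) (hN : Nor M N)
    (hle : ∀ L, Nor M L → L ≠ ⊥ → N ≤ L) (hS : ¬ IsMulCommutative S) (e : N ≃* (Fin m → S))
    (hHN : ∀ g ∈ M, ∃ h ∈ H, ∃ n ∈ N, g = h * n) (h : T ≤ N) (a : Ω) (i : Fin m) : Function.Injective (pj e h i) := by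
  have := hT.simple
  refine (MonoidHom.ker_eq_bot_iff _).1 ((inferInstance : (pj e h i).ker.Normal).eq_bot_or_eq_top.resolve_right
    fun k => not_all hT e i fun j t ht => ?_)
  obtain ⟨v, v1, -, v3⟩ := H936.exists_fperm (pretrans fun a b => (hT.trans hp a b).imp fun t k => ⟨h k.1, k.2⟩) a hN.le
    hN.le_normalizer (fun L l1 l2 => (eq_or_ne L ⊥).imp_right
      fun l3 => le_antisymm l1 (hle L (Nor.of_le (l1.trans hN.le) l2) l3)) hS e i j
  obtain ⟨g, hg, n, hn, rfl⟩ := hHN v v1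
  have h1 : fperm hS e ⟨g, hN.le_normalizer (hM hg)⟩ i = j := by
    rw [← v3, show (⟨g * n, hN.le_normalizer v1⟩ : normalizer (N : Set (Perm Ω))) =
      ⟨g, hN.le_normalizer (hM hg)⟩ * ⟨n, hN.le_normalizer (hN.le hn)⟩ from rfl, map_mul, H936.fperm_mem hS e ⟨n, hn⟩, mul_one]
  have h2 := hT.conj _ (inv_mem hg) t ht
  rw [mem_kr e j ⟨t, h ht⟩, ← h1, H936.fperm_one_iff hS e _ ⟨_, h h2⟩ _ (by simp [mul_assoc])]
  exact k.ge (mem_top (⟨_, h2⟩ : T))

theorem pj_surj (s : Sec X H) (hT : Soc H T) (hM : M ∈ Ov X H) (hN : Nor M N)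
    (hle : ∀ L, Nor M L → L ≠ ⊥ → N ≤ L) (hS : ¬ IsMulCommutative S) (e : N ≃* (Fin m → S)) (hm : 2 ≤ m) (h : T ≤ N)
    (hi : ∀ i, Function.Injective (pj e h i)) (i : Fin m) : Function.Surjective (pj e h i) := by
  let R := ((Subgroup.pi Set.univ fun i => (pj e h i).range).comap e.toMonoidHom).map N.subtype
  have h1 : ∀ n : N, n.1 ∈ R ↔ ∀ i, e n i ∈ (pj e h i).range := fun n =>
    (mem_map_iff_mem N.subtype_injective).trans ⟨fun h i => h i trivial, fun h i _ => h i⟩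
  have h2 : R ≤ N := map_subtype_le _
  have h3 : ∀ g ∈ H, ∀ x ∈ R, g * x * g⁻¹ ∈ R := fun g hg x hx => by
    obtain ⟨φ, hφ⟩ := H936.AutPow.perm_spec hS (cjHom e ⟨g, hN.le_normalizer (hM.2 hg)⟩)
    refine (h1 ⟨_, hN.conj g (hM.2 hg) x (h2 hx)⟩).2 fun j => ?_
    obtain ⟨j, rfl⟩ := (H936.AutPow.perm hS (cjHom e ⟨g, hN.le_normalizer (hM.2 hg)⟩)).surjective j
    obtain ⟨t, ht⟩ := (h1 ⟨x, h2 hx⟩).1 hx j
    refine ⟨⟨_, hT.conj g hg t t.2⟩, ?_⟩
    rw [← H936.cjHom_apply e ⟨g, hN.le_normalizer (hM.2 hg)⟩ ⟨x, h2 hx⟩ _ rfl, hφ, ← ht]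
    exact (congrFun (H936.cjHom_apply e ⟨g, hN.le_normalizer (hM.2 hg)⟩ ⟨t, h t.2⟩ _ rfl) _).symm.trans (hφ _ _)
  have : Nontrivial (Fin m) := Fin.nontrivial_iff_two_le.2 hm
  obtain ⟨j, hj⟩ := exists_ne i
  obtain ⟨t, ht, t1⟩ := (bot_or_exists_ne_one T).resolve_left hT.ne
  have h4 : ∀ j, pj e h j ⟨t, ht⟩ ≠ 1 := fun j k => t1 (congrArg Subtype.val (hi j (k.trans (map_one _).symm)))
  have h5 : (e.symm (Pi.mulSingle j (pj e h j ⟨t, ht⟩))).1 ∈ R := (h1 _).2 fun l => by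
    rw [e.apply_symm_apply]
    by_cases k : l = j
    · rw [k, Pi.mulSingle_eq_same]
      exact ⟨_, rfl⟩
    · rw [Pi.mulSingle_eq_of_ne k]
      exact one_mem _
  rcases s.le_or_mul hM (h2.trans hN.le) h3 with k | k
  · exact absurd ((mem_kr e i ⟨t, h ht⟩).1 (hT.as.le_of_conj (N := R ⊓ kr e i) (inf_le_left.trans k)
      (fun g hg x hx => ⟨h3 g (hT.le hg) x hx.1, (kr_nor e i).conj g (h hg) x hx.2⟩)
      (fun k => single_ne e j (h4 j) (mem_bot.1 (k.le ⟨h5, single_kr e hj.symm _⟩))) ht).2) (h4 i)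
  · intro x
    have h6 := (h1 (e.symm (Pi.mulSingle i x))).1 (hle R ⟨h2.trans hN.le, fun g hg y hy => by
      obtain ⟨g, g1, r, hr, rfl⟩ := k g hg
      rw [show g * r * y * (g * r)⁻¹ = g * (r * y * r⁻¹) * g⁻¹ by group]
      exact h3 g g1 _ (mul_mem (mul_mem hr hy) (inv_mem hr))⟩
      (fun k => single_ne e j (h4 j) (mem_bot.1 (k.le h5))) (e.symm _).2) i
    rwa [e.apply_symm_apply, Pi.mulSingle_eq_same] at h6

/-- **the diagonal form** -/
theorem diag_form (s : Sec X H) (hp : IsPreprimitive H Ω) (hT : Soc H T) (hM : M ∈ Ov X H) (naf : ∀ V, ¬ Aff M V)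
    (nas : ∀ S, ¬ Soc M S) (a : Ω) : ∃ (N : Subgroup (Perm Ω)) (m : ℕ) (e : N ≃* (Fin m → T)) (K : Fin m → Subgroup T)
      (h : T ≤ N), Nor M N ∧ 2 ≤ m ∧ (∀ (t : T) i, e ⟨t, h t.2⟩ i = t) ∧ (∀ i, K i ≠ ⊤) ∧
        ∀ n : N, n.1 a = a ↔ ∀ i, e n i ∈ K i := by
  obtain ⟨N, hN, h0, hle⟩ := exists_min s hp hT hM naf
  obtain ⟨S, _, m, e, _, hS, hm, h1⟩ := ons (prim_of_le hM.2 hp) hN h0 hle naf a
  have tr := trans_nor (prim_of_le hM.2 hp) hN h0
  have : Finite S := Finite.of_surjective (fun n => e n ⟨0, hm⟩) fun x =>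
    ⟨e.symm fun _ => x, congrFun (e.apply_symm_apply _) _⟩
  have h2 := two_le s hp hT hM naf nas hN h0 hS e hm
  have h3 : T ≤ N := le_soc s hp hT hM naf hN h0 hS e fun k => by
    rcases h1 with ⟨K, k1, k2⟩ | ⟨_, c, k1, k2, k3⟩
    · obtain ⟨p, p1, p2⟩ := Nat.exists_prime_and_dvd fun k => k1 ⟨0, hm⟩ (index_eq_one.1 k)
      rw [prod_card tr e k2, Finset.prod_congr rfl fun i _ => prod_index hS tr hN hle e k2 i ⟨0, hm⟩, Finset.prod_const,
        Finset.card_univ, Fintype.card_fin] at k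
      exact not_pow_dvd p1 hm (Nat.le_mul_of_pos_left m (by have := p1.two_le; omega)) ((pow_dvd_pow_of_dvd p2 m).trans k)
    · obtain ⟨j, j1, j2⟩ := diag_dvd tr e hm k1 k2 k3
      obtain ⟨p, p1, p2, p3⟩ := exists_odd hS
      exact not_pow_dvd p1 hm (j1.trans (Nat.mul_le_mul_right j (by omega))) (((pow_dvd_pow_of_dvd p3 j).trans j2).trans k)
  have h4 := pj_inj hp hT hM.2 hN hle hS e (eq_mul s hT hM hN h0 e h2) h3 a
  have h5 := pj_surj s hT hM hN hle hS e h2 h3 h4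
  rcases h1 with ⟨K, k1, k2⟩ | ⟨_, c, k1, k2, k3⟩
  · let π := fun i => MulEquiv.ofBijective _ ⟨h4 i, h5 i⟩
    refine ⟨N, m, e.trans (MulEquiv.piCongrRight fun i => (π i).symm), fun i => (K i).comap (pj e h3 i), h3, hN, h2,
      fun t i => (π i).symm_apply_apply t, fun i k => k1 i (eq_top_iff.2 fun x _ => ?_), fun n => (k2 n).trans
        (forall_congr' fun i => by rw [← (π i).apply_symm_apply (e n i)]; rfl)⟩
    obtain ⟨t, rfl⟩ := h5 i x
    exact k.ge (mem_top t)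
  · obtain ⟨j, j1, j2⟩ := diag_dvd tr e hm k1 k2 k3
    have : Nonempty Ω := ⟨a⟩
    exact absurd ((Nat.card_le_card_of_injective _ (h4 ⟨0, hm⟩)).trans
      (Nat.le_of_dvd Nat.card_pos ((dvd_pow_self _ (by omega)).trans j2))) (lt_card hT hp (le_trans (by norm_num) s.five)).not_ge

end Cfsg.Agent.SM.Ot
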