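import Cfsg.Agent.SM.Ot.ProdB

/-!
# SM (S3570), box Oth: the cartesian decomposition; the socle of `H` is alternating (helper15)
-/

set_option autoImplicit false
set_option linter.unusedSectionVars false

namespace Cfsg.Agent.SM.Ot

open Cfsg Equiv Subgroup MulAction
open Cfsg.Agent.H936 (cjHom fperm relStab)

variable {Ω : Type} [Fintype Ω] [DecidableEq Ω] {X H T M N V : Subgroup (Perm Ω)} {m : ℕ}

/-- two points agree in one of the coordinates `T ⧸ L` -/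
def Rel (T : Subgroup (Perm Ω)) (a : Ω) (𝒦 : Set (Subgroup T)) (x y : Ω) : Prop :=
  ∃ t t' : T, t.1 a = x ∧ t'.1 a = y ∧ ∃ L ∈ 𝒦, t⁻¹ * t' ∈ L

/-- the coordinates -/
theorem exists_coord (tr : ∀ a b : Ω, ∃ n ∈ T, n a = b) (e : N ≃* (Fin m → T)) {K : Fin m → Subgroup T} (h : T ≤ N)
    (hd : ∀ (t : T) i, e ⟨t, h t.2⟩ i = t) {a : Ω} (hs : ∀ n : N, n.1 a = a ↔ ∀ i, e n i ∈ K i) :
    ∃ Φ : Ω ≃ ∀ i, T ⧸ K i, (∀ i, Φ a i = (1 : T)) ∧ ∀ (n : N) x i, Φ (n.1 x) i = e n i • Φ x i := by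
  choose τ τ1 τ2 using tr a
  have h1 : ∀ n n' : N, n.1 a = n'.1 a ↔ ∀ i, (e n i : T ⧸ K i) = e n' i := fun n n' => by
    rw [← Perm.eq_inv_iff_eq, eq_comm, ← Perm.mul_apply]
    exact (hs (n⁻¹ * n')).trans (forall_congr' fun i => by rw [map_mul, map_inv, QuotientGroup.eq]; rfl)
  have h2 : ∀ (n : N) i, ((⟨τ (n.1 a), τ1 _⟩ : T) : T ⧸ K i) = e n i := fun n i => by
    rw [← (h1 ⟨τ (n.1 a), h (τ1 _)⟩ n).1 (τ2 _) i, hd ⟨_, τ1 _⟩]
  refine ⟨Equiv.ofBijective (fun x i => ((⟨τ x, τ1 x⟩ : T) : T ⧸ K i)) ⟨fun x y k => ?_, fun q => ?_⟩, fun i => ?_,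
    fun n x i => ?_⟩
  · rw [← τ2 x, ← τ2 y]
    exact (h1 ⟨_, h (τ1 x)⟩ ⟨_, h (τ1 y)⟩).2 fun i => by rw [hd ⟨_, τ1 x⟩, hd ⟨_, τ1 y⟩]; exact congrFun k i
  · exact ⟨(e.symm fun i => (q i).out).1 a, funext fun i => (h2 _ i).trans (by rw [e.apply_symm_apply, QuotientGroup.out_eq'])⟩
  · exact (h2 1 i).trans (by rw [map_one]; rfl)
  · have h3 := h2 (n * ⟨_, h (τ1 x)⟩) i
    rw [map_mul, Pi.mul_apply, hd ⟨_, τ1 x⟩] at h3
    simp only [coe_mul, Perm.mul_apply, τ2] at h3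
    exact h3

section

variable {e : N ≃* (Fin m → T)} {K : Fin m → Subgroup T} {h : T ≤ N} {a : Ω} {Φ : Ω ≃ ∀ i, T ⧸ K i}

theorem rel_iff (tr : ∀ a b : Ω, ∃ n ∈ T, n a = b) (hd : ∀ (t : T) i, e ⟨t, h t.2⟩ i = t) (h1 : ∀ i, Φ a i = (1 : T))
    (h2 : ∀ (n : N) x i, Φ (n.1 x) i = e n i • Φ x i) (x y : Ω) : Rel T a (Set.range K) x y ↔ ∃ i, Φ x i = Φ y i := by
  have h3 : ∀ (t : T) i, Φ (t.1 a) i = t := fun t i => by
    rw [h2 ⟨t, h t.2⟩, hd, h1, Quotient.smul_coe, smul_eq_mul, mul_one]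
  constructor
  · rintro ⟨t, t', rfl, rfl, _, ⟨i, rfl⟩, k⟩
    exact ⟨i, by rwa [h3, h3, QuotientGroup.eq]⟩
  · rintro ⟨i, k⟩
    obtain ⟨t, ht, rfl⟩ := tr a x
    obtain ⟨t', ht', rfl⟩ := tr a y
    exact ⟨⟨t, ht⟩, ⟨t', ht'⟩, rfl, rfl, _, ⟨i, rfl⟩, by rwa [h3 ⟨t, ht⟩, h3 ⟨t', ht'⟩, QuotientGroup.eq] at k⟩

theorem coord_iff (h2 : ∀ (n : N) x i, Φ (n.1 x) i = e n i • Φ x i) (x y : Ω) (i : Fin m) :
    Φ x i = Φ y i ↔ ∃ n : N, e n i = 1 ∧ n.1 x = y := by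
  refine ⟨fun k => ?_, fun ⟨n, k1, k2⟩ => by rw [← k2, h2, k1, one_smul]⟩
  choose u hu using fun j => exists_smul_eq T (Φ x j) (Φ y j)
  refine ⟨e.symm (Function.update u i 1), by rw [e.apply_symm_apply, Function.update_self], Φ.injective (funext fun j => ?_)⟩
  rw [h2, e.apply_symm_apply]
  by_cases l : j = i
  · rw [l, Function.update_self, one_smul, k]
  · rw [Function.update_of_ne l, hu]

theorem le_rel (hT : Soc H T) (hN : Nor M N) (h2 : ∀ (n : N) x i, Φ (n.1 x) i = e n i • Φ x i) :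
    M ≤ relStab fun x y => ∃ i, Φ x i = Φ y i := by
  have := hT.simple
  have h3 : ∀ g ∈ M, ∀ x y, (∃ i, Φ x i = Φ y i) → ∃ i, Φ (g x) i = Φ (g y) i := fun g hg x y ⟨i, k⟩ => by
    obtain ⟨n, k1, rfl⟩ := (coord_iff h2 x y i).1 k
    exact ⟨_, (coord_iff h2 _ _ _).2 ⟨⟨_, hN.conj g hg n n.2⟩,
      (H936.fperm_one_iff hT.nab e ⟨g, hN.le_normalizer hg⟩ n _ rfl i).2 k1, by simp⟩⟩
  exact fun g hg x y => ⟨h3 g hg x y, fun k => by simpa using h3 _ (inv_mem hg) _ _ k⟩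

theorem not_alt_le (h5 : 5 ≤ Fintype.card Ω) (hm : 2 ≤ m) (hK : ∀ i, K i ≠ ⊤) :
    ¬ alternatingGroup Ω ≤ relStab fun x y => ∃ i, Φ x i = Φ y i := by
  have := fun i => (QuotientGroup.nontrivial_iff.2 (hK i) : Nontrivial (T ⧸ K i))
  have : Nontrivial (Fin m) := Fin.nontrivial_iff_two_le.2 hm
  choose u v hu using fun i => exists_pair_ne (T ⧸ K i)
  obtain ⟨i, j, hj⟩ := exists_pair_ne (Fin m)
  refine H936.not_alt_le_of_rel (by rw [Nat.card_eq_fintype_card]; omega) (fun x y => ∃ i, Φ x i = Φ y i)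
    (fun w hw x y => (hw x y).1) (x := Φ.symm u) (y := Φ.symm (Function.update u j (v j))) (z := Φ.symm v)
    (fun k => hu j ((congrFun (Φ.symm.injective k) j).trans (Function.update_self ..)))
    (fun k => hu j (congrFun (Φ.symm.injective k) j)) ⟨i, ?_⟩ fun ⟨i, k⟩ => hu i (by simpa using k)
  rw [Φ.apply_symm_apply, Φ.apply_symm_apply, Function.update_of_ne hj]

/-- the socle induces the alternating group on each coordinate -/
theorem alt_coord (s : Sec X H) (hT : Soc H T) (hM : M ∈ Ov X H) (hN : Nor M N) (hm : 2 ≤ m) (hK : ∀ i, K i ≠ ⊤)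
    (h2 : ∀ (n : N) x i, Φ (n.1 x) i = e n i • Φ x i) (i : Fin m) :
    5 ≤ (K i).index ∧ Nonempty (T ≃* alternatingGroup (Fin (K i).index)) := by
  classical
  have := hT.simple
  have := Fintype.ofFinite (T ⧸ K i)
  have h3 : Function.Injective (toPermHom T (T ⧸ K i)) := (MonoidHom.ker_eq_bot_iff _).1
    ((inferInstance : (toPermHom T (T ⧸ K i)).ker.Normal).eq_bot_or_eq_top.resolve_right fun k => hK i (eq_top_iff.2 fun t _ => by
      have h3 : t • ((1 : T) : T ⧸ K i) = (1 : T) := congrArg (fun σ : Perm (T ⧸ K i) => σ (1 : T)) (k.ge (mem_top t))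
      rwa [Quotient.smul_coe, smul_eq_mul, mul_one, eq_comm, QuotientGroup.eq, inv_one, one_mul] at h3))
  have h4 : 5 ≤ (K i).index := not_lt.1 fun k => by
    have : Group.IsSolvable (Perm (T ⧸ K i)) := ⟨⟨3, H936.derivedSeries_perm_le_four (Nat.le_of_lt_succ k)⟩⟩
    exact hT.as.not_solvable (Group.isSolvable_of_isSolvable_injective h3)
  let W := (Φ.symm.permCongrHom.toMonoidHom.comp (toPermHom (∀ j, Perm (T ⧸ K j)) (∀ j, T ⧸ K j))).comp
    (MonoidHom.mulSingle (fun j => Perm (T ⧸ K j)) i)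
  have h5 : ∀ τ x j, Φ (W τ x) j = Pi.mulSingle (M := fun j => Perm (T ⧸ K j)) i τ j (Φ x j) := fun τ x j =>
    congrFun (Φ.apply_symm_apply _) j
  have h6 : alternatingGroup (T ⧸ K i) ≤ (alternatingGroup Ω).comap W := by
    rw [← Perm.closure_three_cycles_eq_alternating (α := T ⧸ K i), closure_le]
    intro τ hτ
    have h6 := congrArg (fun σ => Perm.sign (W σ)) (hτ.orderOf ▸ pow_orderOf_eq_one τ : τ ^ 3 = 1)
    simp only [map_pow, map_one] at h6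
    rwa [pow_succ, Int.units_sq, one_mul] at h6
  have h7 : alternatingGroup (T ⧸ K i) ≤ (toPermHom T (T ⧸ K i)).range := by
    refine alt_le_of_conj (by rwa [← Nat.card_eq_fintype_card]) (fun k => ?_) ?_
    · obtain ⟨t, ht⟩ := exists_ne (1 : T)
      exact ht (h3 ((mem_bot.1 (k.le ⟨t, rfl⟩)).trans (map_one _).symm))
    · rintro τ hτ _ ⟨t, rfl⟩
      have h7 : W τ ∈ M := (s.eq_inf hM (le_rel hT hN h2) (not_alt_le s.five hm hK)).ge ⟨s.alt (h6 hτ), fun x y =>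
        exists_congr fun j => by rw [h5, h5, Equiv.apply_eq_iff_eq]⟩
      refine ⟨e ⟨_, hN.conj _ h7 _ (e.symm fun _ => t).2⟩ i, Perm.ext fun q => ?_⟩
      obtain ⟨x, hx⟩ := Φ.surjective (Function.update (fun j => ((1 : T) : T ⧸ K j)) i q)
      obtain rfl : Φ x i = q := by rw [hx, Function.update_self]
      rw [toPermHom_apply, toPerm_apply, ← h2, coe_mk, ← map_inv, Perm.mul_apply, Perm.mul_apply, h5, h2, h5,
        e.apply_symm_apply, Pi.mulSingle_eq_same, Pi.mulSingle_eq_same]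
      rfl
  have h8 : (toPermHom T (T ⧸ K i)).range ≤ alternatingGroup (T ⧸ K i) := by
    rintro _ ⟨t, rfl⟩
    rcases (inferInstance : (Perm.sign.comp (toPermHom T (T ⧸ K i))).ker.Normal).eq_bot_or_eq_top with k | k
    · exact absurd ⟨⟨fun x y => (MonoidHom.ker_eq_bot_iff _).1 k (by rw [map_mul, map_mul, mul_comm])⟩⟩ hT.nab
    · exact k.ge (mem_top t)
  exact ⟨h4, ⟨((MonoidHom.ofInjective h3).trans (MulEquiv.subgroupCongr (le_antisymm h8 h7))).trans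
    (Finite.equivFinOfCardEq rfl).altCongrHom⟩⟩

end

theorem deg_eq {G : Type} [Group G] {c d : ℕ} (hc : 5 ≤ c) (hd : 5 ≤ d) (h1 : Nonempty (G ≃* alternatingGroup (Fin c)))
    (h2 : Nonempty (G ≃* alternatingGroup (Fin d))) : c = d := by
  have : Nontrivial (Fin c) := Fin.nontrivial_iff_two_le.2 (by omega)
  have : Nontrivial (Fin d) := Fin.nontrivial_iff_two_le.2 (by omega)
  have h3 := two_mul_nat_card_alternatingGroup (α := Fin c)
  rw [← Nat.card_congr h1.some.toEquiv, Nat.card_congr h2.some.toEquiv, two_mul_nat_card_alternatingGroup, Nat.card_perm,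
    Nat.card_perm, Nat.card_fin, Nat.card_fin] at h3
  exact ((Nat.factorial_inj (by omega)).1 h3).symm

/-- **the cartesian decomposition** -/
theorem cart (s : Sec X H) (hp : IsPreprimitive H Ω) (hT : Soc H T) (hM : M ∈ Ov X H) (naf : ∀ V, ¬ Aff M V)
    (nas : ∀ S, ¬ Soc M S) (a : Ω) : ∃ (c m : ℕ) (K : Fin m → Subgroup T), 5 ≤ c ∧ 2 ≤ m ∧
      Nonempty (T ≃* alternatingGroup (Fin c)) ∧ (∀ i, (K i).index = c) ∧ (∃ i j, K i ≠ K j) ∧ Nat.card Ω = c ^ m ∧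
        (∀ i, stabilizer T a ≤ K i) ∧ M ≤ relStab (Rel T a (Set.range K)) ∧
          ¬ alternatingGroup Ω ≤ relStab (Rel T a (Set.range K)) := by
  obtain ⟨N, m, e, K, h, hN, hm, hd, hK, hs⟩ := diag_form s hp hT hM naf nas a
  obtain ⟨Φ, h1, h2⟩ := exists_coord (hT.trans hp) e h hd hs
  have h3 := alt_coord s hT hM hN hm hK h2
  have : Nontrivial (Fin m) := Fin.nontrivial_iff_two_le.2 hm
  obtain ⟨i, j, hj⟩ := exists_pair_ne (Fin m)
  have h4 := fun l => deg_eq (h3 l).1 (h3 i).1 (h3 l).2 (h3 i).2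
  have h5 : Rel T a (Set.range K) = _ := funext₂ fun x y => propext (rel_iff (hT.trans hp) hd h1 h2 x y)
  refine ⟨_, m, K, (h3 i).1, hm, (h3 i).2, h4, ⟨i, j, fun k => hK j (eq_top_iff.2 fun u _ => ?_)⟩, ?_,
    fun l t ht => hd t l ▸ (hs ⟨t, h t.2⟩).1 ht l, h5 ▸ le_rel hT hN h2, h5 ▸ not_alt_le s.five hm hK⟩
  · obtain ⟨t, ht, k1⟩ := hT.trans hp a ((e.symm (Pi.mulSingle j u)).1 a)
    have h6 := (hs ((⟨t, h ht⟩ : N)⁻¹ * e.symm (Pi.mulSingle j u))).1 (Perm.inv_eq_iff_eq.2 k1.symm)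
    simp only [map_mul, map_inv, Pi.mul_apply, Pi.inv_apply, hd ⟨t, ht⟩, e.apply_symm_apply] at h6
    have h7 := h6 i
    rw [Pi.mulSingle_eq_of_ne hj, mul_one, k] at h7
    simpa using mul_mem (inv_mem h7) (h6 j)
  · rw [prod_card (fun a b => (hT.trans hp a b).imp fun t k => ⟨h k.1, k.2⟩) e hs, Finset.prod_congr rfl fun l _ => h4 l,
      Finset.prod_const, Finset.card_univ, Fintype.card_fin]

end Cfsg.Agent.SM.Ot
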